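import Mathlib
import Cfsg.Prelude.Def_SubgroupEmbedding
import Cfsg.Prelude.Def_Transfer
import Cfsg.Prelude.Def_Solvable
import Cfsg.Agent.Helper4.PCore
import Cfsg.Agent.Helper2.SubnormalP

/-!
helper9: basic lemmas for the minimal counterexample reduction of the Sidki pair problem (S3048).
-/

set_option autoImplicit false

namespace Cfsg.Agent.Helper9.Sidki

universe u

variable {G : Type u} [Group G]

/-- inversion by conjugation passes to powers -/
theorem inv_pow_of_inv {v d : G} (h : v * d * v⁻¹ = d⁻¹) (n : ℕ) :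
    v * d ^ n * v⁻¹ = (d ^ n)⁻¹ := by
  rw [← inv_pow, ← h, conj_pow]

theorem inv_eq_self_of_sq {v : G} (hv : v ^ 2 = 1) : v⁻¹ = v := by
  rw [inv_eq_iff_mul_eq_one, ← sq, hv]

/-- an element of odd order which is inverted and centralized by the same element is trivial -/
theorem eq_one_of_inv_of_comm {w h : G} (hodd : Odd (orderOf h)) (hinv : w * h * w⁻¹ = h⁻¹)
    (hc : w * h = h * w) : h = 1 := by
  have h1 : h = h⁻¹ := by
    rw [← hinv, hc, mul_inv_cancel_right]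
  have h2 : h ^ 2 = 1 := by
    rw [sq]
    nth_rewrite 1 [h1]
    exact inv_mul_cancel h
  have h3 : orderOf h ∣ 2 := orderOf_dvd_of_pow_eq_one h2
  have h4 : orderOf h = 1 := by
    rcases (Nat.dvd_prime Nat.prime_two).1 h3 with h5 | h5
    · exact h5
    · rw [h5] at hodd
      exact absurd hodd (by decide)
  exact orderOf_eq_one_iff.1 h4

/-- The lifting trick: an element of odd order of `G ⧸ N` inverted by the image of an involution
`v` is a power of the image of an element of odd order of `G` inverted by `v`. -/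
theorem exists_lift [Finite G] (N : Subgroup G) [N.Normal] (v h : G) (hv : v ^ 2 = 1)
    (hodd : Odd (orderOf (QuotientGroup.mk' N h)))
    (hinv : QuotientGroup.mk' N v * QuotientGroup.mk' N h * (QuotientGroup.mk' N v)⁻¹ =
      (QuotientGroup.mk' N h)⁻¹) :
    ∃ d : G, Odd (orderOf d) ∧ v * d * v⁻¹ = d⁻¹ ∧
      ∀ w : G, w * d = d * w →
        QuotientGroup.mk' N w * QuotientGroup.mk' N h =
          QuotientGroup.mk' N h * QuotientGroup.mk' N w := by
  set π := QuotientGroup.mk' N with hπ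
  have hvinv : v⁻¹ = v := inv_eq_self_of_sq hv
  set d0 : G := v * h * v⁻¹ * h⁻¹ with hd0
  have hd0inv : v * d0 * v⁻¹ = d0⁻¹ := by
    have hvv : v * v = 1 := by rw [← sq, hv]
    calc v * d0 * v⁻¹ = v * v * h * v⁻¹ * h⁻¹ * v⁻¹ := by rw [hd0]; group
      _ = h * v⁻¹ * h⁻¹ * v⁻¹ := by rw [hvv, one_mul]
      _ = h * v * h⁻¹ * v⁻¹ := by rw [hvinv]
      _ = d0⁻¹ := by rw [hd0]; group
  have hπd0 : π d0 = (π h)⁻¹ * (π h)⁻¹ := by
    rw [hd0, map_mul, map_mul, map_mul, map_inv, map_inv, hinv]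
  have hn0 : orderOf d0 ≠ 0 := (orderOf_pos d0).ne'
  obtain ⟨k, m, hm, hkm⟩ := Nat.exists_eq_two_pow_mul_odd hn0
  set d : G := d0 ^ (2 ^ k) with hd
  have hord : orderOf d = m := by
    rw [hd, orderOf_pow_of_dvd (pow_ne_zero k two_ne_zero) (Dvd.intro _ hkm.symm), hkm,
      Nat.mul_div_cancel_left _ (pow_pos two_pos k)]
  refine ⟨d, hord ▸ hm, inv_pow_of_inv hd0inv _, ?_⟩
  intro w hw
  have hπd : π d = ((π h) ^ (2 ^ (k + 1)))⁻¹ := by
    rw [hd, map_pow, hπd0, ← mul_inv_rev, ← sq, inv_pow, ← pow_mul, pow_succ, mul_comm]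
  have hcop : (2 ^ (k + 1)).Coprime (orderOf (π h)) :=
    Nat.Coprime.pow_left _ (Nat.coprime_two_left.2 hodd)
  obtain ⟨j, hj⟩ := exists_pow_eq_self_of_coprime hcop
  have hc1 : Commute (π w) (π d) := by
    show π w * π d = π d * π w
    rw [← map_mul, ← map_mul, hw]
  have hc2 : Commute (π w) ((π h) ^ (2 ^ (k + 1))) := by
    have := hc1.inv_right
    rwa [hπd, inv_inv] at this
  have hc3 := hc2.pow_right j
  rw [hj] at hc3
  exact hc3

/-- The image of an elementary abelian subgroup is elementary abelian. -/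
theorem isElementaryAbelian_map {H : Type*} [Group H] (f : G →* H) {p : ℕ} {V : Subgroup G}
    (hV : Cfsg.IsElementaryAbelian p V) : Cfsg.IsElementaryAbelian p (V.map f) := by
  obtain ⟨hc, he⟩ := hV
  refine ⟨⟨⟨?_⟩⟩, ?_⟩
  · rintro ⟨_, a, ha, rfl⟩ ⟨_, b, hb, rfl⟩
    apply Subtype.ext
    show f a * f b = f b * f a
    have h1 : (⟨a, ha⟩ : V) * ⟨b, hb⟩ = ⟨b, hb⟩ * ⟨a, ha⟩ := hc.is_comm.comm _ _
    have h2 : a * b = b * a := congrArg Subtype.val h1
    rw [← map_mul, ← map_mul, h2]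
  · rintro _ ⟨a, ha, rfl⟩
    rw [← map_pow, he a ha, map_one]

/-- A subgroup of an elementary abelian subgroup is elementary abelian. -/
theorem isElementaryAbelian_of_le {p : ℕ} {V W : Subgroup G}
    (hV : Cfsg.IsElementaryAbelian p V) (hWV : W ≤ V) : Cfsg.IsElementaryAbelian p W := by
  obtain ⟨hc, he⟩ := hV
  refine ⟨⟨⟨?_⟩⟩, fun a ha => he a (hWV ha)⟩
  rintro ⟨a, ha⟩ ⟨b, hb⟩
  apply Subtype.ext
  show a * b = b * a
  have h1 : (⟨a, hWV ha⟩ : V) * ⟨b, hWV hb⟩ = ⟨b, hWV hb⟩ * ⟨a, hWV ha⟩ := hc.is_comm.comm _ _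
  exact congrArg Subtype.val h1

theorem comm_of_isElementaryAbelian {p : ℕ} {V : Subgroup G}
    (hV : Cfsg.IsElementaryAbelian p V) {a b : G} (ha : a ∈ V) (hb : b ∈ V) : a * b = b * a := by
  have h1 : (⟨a, ha⟩ : V) * ⟨b, hb⟩ = ⟨b, hb⟩ * ⟨a, ha⟩ := hV.1.is_comm.comm _ _
  exact congrArg Subtype.val h1

theorem isPGroup_of_isElementaryAbelian {p : ℕ} {V : Subgroup G}
    (hV : Cfsg.IsElementaryAbelian p V) : IsPGroup p V := by
  intro x
  refine ⟨1, ?_⟩
  apply Subtype.ext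
  rw [pow_one]
  exact hV.2 x.1 x.2

/-- The Sidki pair condition passes to a quotient by a normal subgroup meeting `V` trivially. -/
theorem sidki_map [Finite G] (N : Subgroup G) [N.Normal] (V : Subgroup G)
    (hV : Cfsg.IsElementaryAbelian 2 V) (hS : Cfsg.IsSidkiPair V) (hVN : V ⊓ N = ⊥) :
    Cfsg.IsSidkiPair (V.map (QuotientGroup.mk' N)) := by
  intro hbar vbar hvbar hodd hinv
  obtain ⟨v, hvV, rfl⟩ := hvbar
  obtain ⟨h, rfl⟩ := QuotientGroup.mk'_surjective N hbar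
  obtain ⟨d, hd1, hd2, hd3⟩ := exists_lift N v h (hV.2 v hvV) hodd hinv
  obtain ⟨w, hwV, hw1, hwd⟩ := hS d v hvV hd1 hd2
  refine ⟨QuotientGroup.mk' N w, Subgroup.mem_map_of_mem _ hwV, ?_, hd3 w hwd⟩
  intro h1
  apply hw1
  have h2 : w ∈ V ⊓ N := ⟨hwV, (QuotientGroup.eq_one_iff w).1 h1⟩
  rw [hVN] at h2
  exact h2

/-- Elements of odd order of `W ⊔ K`, `W` a `2`-group normalizing `K`, lie in `K`. -/
theorem mem_of_odd_of_mem_sup [Finite G] (W K : Subgroup G) (hW : IsPGroup 2 W)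
    (hWK : W ≤ Subgroup.normalizer (K : Set G)) {h : G} (hh : h ∈ W ⊔ K)
    (hodd : Odd (orderOf h)) : h ∈ K := by
  have h1 : h ∈ ((W ⊔ K : Subgroup G) : Set G) := hh
  rw [Subgroup.coe_mul_of_left_le_normalizer_right W K hWK] at h1
  obtain ⟨w, hw, k, hk, rfl⟩ := h1
  have hw' : w ∈ W := hw
  have hk' : k ∈ K := hk
  have key : ∀ n : ℕ, ∃ k' ∈ K, (w * k) ^ n = w ^ n * k' := by
    intro n
    induction n with
    | zero => exact ⟨1, K.one_mem, by simp⟩
    | succ n ih =>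
      obtain ⟨k', hk'K, he⟩ := ih
      refine ⟨w⁻¹ * k' * w * k, K.mul_mem ?_ hk', ?_⟩
      · have := (Subgroup.mem_normalizer_iff.1 (hWK (W.inv_mem hw')) k').1 hk'K
        simpa using this
      · rw [pow_succ, he, pow_succ]
        group
  obtain ⟨k', hk'K, he⟩ := key (orderOf (w * k))
  rw [pow_orderOf_eq_one] at he
  have hwn : w ^ orderOf (w * k) ∈ K := by
    have : w ^ orderOf (w * k) = k'⁻¹ := by
      rw [eq_inv_iff_mul_eq_one, ← he]
    rw [this]
    exact K.inv_mem hk'K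
  obtain ⟨j, hj⟩ := hW ⟨w, hw'⟩
  have hj' : w ^ 2 ^ j = 1 := by
    have := congrArg Subtype.val hj
    simpa using this
  have hcop : (orderOf (w * k)).Coprime (orderOf w) := by
    have h2 : orderOf w ∣ 2 ^ j := orderOf_dvd_of_pow_eq_one hj'
    obtain ⟨i, -, hi⟩ := (Nat.dvd_prime_pow Nat.prime_two).1 h2
    rw [hi]
    exact Nat.Coprime.pow_right _ (Nat.coprime_two_right.2 hodd)
  obtain ⟨m, hm⟩ := exists_pow_eq_self_of_coprime hcop
  have hwK : w ∈ K := by
    rw [← hm]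
    exact K.pow_mem hwn m
  exact K.mul_mem hwK hk'

end Cfsg.Agent.Helper9.Sidki
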