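import Mathlib
import Cfsg.Prelude.Def_Local
import Cfsg.Agent.Helper9.Sidki.Basic
import Cfsg.Agent.Helper3.HHAbA
import Cfsg.Agent.Helper2.Layer3
import Cfsg.Agent.Helper5.SPEFitting

/-!
helper9: the minimal counterexample to the Sidki pair problem: `O₂(G) = 1` and `G = V F*(G)`.
-/

set_option autoImplicit false

namespace Cfsg.Agent.Helper9.Sidki

universe u

variable {G : Type u} [Group G] [Finite G]

/-- The hypotheses of the minimal counterexample. -/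
structure Ctx (G : Type u) [Group G] [Finite G] (V : Subgroup G) : Prop where
  hV : Cfsg.IsElementaryAbelian 2 V
  hV1 : V ≠ ⊥
  hS : Cfsg.IsSidkiPair V
  hVO : V ⊓ Cfsg.pCore 2 G = ⊥
  hminG : ∀ (H : Type u) [Group H] [Finite H] (W : Subgroup H), Nat.card H < Nat.card G →
    Cfsg.IsElementaryAbelian 2 W → W ≠ ⊥ → Cfsg.IsSidkiPair W → W ⊓ Cfsg.pCore 2 H ≠ ⊥
  hminV : ∀ W : Subgroup G, Nat.card W < Nat.card V → Cfsg.IsElementaryAbelian 2 W → W ≠ ⊥ →
    Cfsg.IsSidkiPair W → W ⊓ Cfsg.pCore 2 G ≠ ⊥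

variable {V : Subgroup G}

/-- Minimality applied to a quotient. -/
theorem Ctx.min_quot (c : Ctx G V) (N : Subgroup G) [N.Normal] (hN : N ≠ ⊥) (hVN : V ⊓ N = ⊥) :
    ∃ v ∈ V, v ≠ 1 ∧ QuotientGroup.mk' N v ∈ Cfsg.pCore 2 (G ⧸ N) := by
  have hcard : Nat.card (G ⧸ N) < Nat.card G := by
    rw [Subgroup.card_eq_card_quotient_mul_card_subgroup N]
    have h1 : 1 < Nat.card N := by
      rw [Subgroup.one_lt_card_iff_ne_bot]
      exact hN
    have h2 : 0 < Nat.card (G ⧸ N) := Nat.card_pos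
    nlinarith
  have hne : V.map (QuotientGroup.mk' N) ≠ ⊥ := by
    intro h
    apply c.hV1
    rw [eq_bot_iff]
    intro x hx
    have h1 : QuotientGroup.mk' N x ∈ V.map (QuotientGroup.mk' N) :=
      Subgroup.mem_map_of_mem _ hx
    rw [h, Subgroup.mem_bot, QuotientGroup.mk'_apply, QuotientGroup.eq_one_iff] at h1
    have h2 : x ∈ V ⊓ N := ⟨hx, h1⟩
    rwa [hVN] at h2
  have h3 := c.hminG (G ⧸ N) (V.map (QuotientGroup.mk' N)) hcard
    (isElementaryAbelian_map _ c.hV) hne (sidki_map N V c.hV c.hS hVN)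
  obtain ⟨⟨x, hx⟩, hx1⟩ := (Subgroup.ne_bot_iff_exists_ne_one).1 h3
  obtain ⟨⟨v, hvV, rfl⟩, hx2⟩ := hx
  refine ⟨v, hvV, ?_, hx2⟩
  rintro rfl
  apply hx1
  apply Subtype.ext
  simp

/-- Minimality applied to a proper subgroup. -/
theorem Ctx.min_sub (c : Ctx G V) (H W : Subgroup G) (hH : H ≠ ⊤) (hWH : W ≤ H)
    (hW : Cfsg.IsElementaryAbelian 2 W) (hW1 : W ≠ ⊥)
    (hSW : ∀ h ∈ H, ∀ v ∈ W, Odd (orderOf h) → v * h * v⁻¹ = h⁻¹ →
      ∃ w ∈ W, w ≠ 1 ∧ w * h = h * w) :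
    ∃ w ∈ W, w ≠ 1 ∧ ∃ R : Subgroup G, IsPGroup 2 R ∧ R ≤ H ∧
      H ≤ Subgroup.normalizer (R : Set G) ∧ w ∈ R := by
  have hcard : Nat.card H < Nat.card G :=
    lt_of_le_of_ne (Subgroup.card_le_card_group H) (fun h => hH (Subgroup.eq_top_of_card_eq H h))
  have hW' : Cfsg.IsElementaryAbelian 2 (W.subgroupOf H) := by
    refine ⟨⟨⟨?_⟩⟩, ?_⟩
    · rintro ⟨a, ha⟩ ⟨b, hb⟩
      apply Subtype.ext
      apply Subtype.ext
      exact comm_of_isElementaryAbelian hW ha hb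
    · intro a ha
      apply Subtype.ext
      have := hW.2 (a : G) ha
      simpa using this
  have hW1' : W.subgroupOf H ≠ ⊥ := by
    intro h
    apply hW1
    rw [eq_bot_iff]
    intro x hx
    have h1 : (⟨x, hWH hx⟩ : H) ∈ W.subgroupOf H := hx
    rw [h, Subgroup.mem_bot] at h1
    have := congrArg Subtype.val h1
    simpa using this
  have hS' : Cfsg.IsSidkiPair (W.subgroupOf H) := by
    intro h v hv hodd hinv
    have hodd' : Odd (orderOf (h : G)) := by rwa [Subgroup.orderOf_coe]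
    have hinv' : (v : G) * (h : G) * (v : G)⁻¹ = (h : G)⁻¹ := by
      have := congrArg Subtype.val hinv
      simpa using this
    obtain ⟨w, hwW, hw1, hwh⟩ := hSW (h : G) h.2 (v : G) hv hodd' hinv'
    refine ⟨⟨w, hWH hwW⟩, hwW, ?_, ?_⟩
    · intro h1
      apply hw1
      have := congrArg Subtype.val h1
      simpa using this
    · apply Subtype.ext
      simpa using hwh
  have h3 := c.hminG H (W.subgroupOf H) hcard hW' hW1' hS'
  obtain ⟨⟨x, hx⟩, hx1⟩ := (Subgroup.ne_bot_iff_exists_ne_one).1 h3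
  obtain ⟨hxW, hxR⟩ := hx
  refine ⟨(x : G), hxW, ?_, (Cfsg.pCore 2 H).map H.subtype, ?_, Subgroup.map_subtype_le _, ?_,
    Subgroup.mem_map_of_mem _ hxR⟩
  · intro h1
    apply hx1
    apply Subtype.ext
    apply Subtype.ext
    simpa using h1
  · exact IsPGroup.map Cfsg.Agent.Helper4.pCore_isPGroup _
  · have h4 := Subgroup.le_normalizer_map (H := Cfsg.pCore 2 H) H.subtype
    haveI : (Cfsg.pCore 2 H).Normal := Cfsg.Agent.Helper4.pCore_normal
    rw [Subgroup.normalizer_eq_top, ← MonoidHom.range_eq_map, Subgroup.range_subtype] at h4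
    exact h4

/-- Minimality applied to a proper subgroup `H` normalizing a subnormal subgroup `K ≤ H`. -/
theorem Ctx.cent_of_min (c : Ctx G V) (hO : Cfsg.pCore 2 G = ⊥) (H W K : Subgroup G)
    (hH : H ≠ ⊤) (hWH : W ≤ H) (hKH : K ≤ H) (hHK : H ≤ Subgroup.normalizer (K : Set G))
    (hK : K.IsSubnormal) (hW : Cfsg.IsElementaryAbelian 2 W) (hW1 : W ≠ ⊥)
    (hSW : ∀ h ∈ H, ∀ v ∈ W, Odd (orderOf h) → v * h * v⁻¹ = h⁻¹ →
      ∃ w ∈ W, w ≠ 1 ∧ w * h = h * w) :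
    ∃ w ∈ W, w ≠ 1 ∧ ∃ R : Subgroup G, IsPGroup 2 R ∧ w ∈ R ∧ R ≤ H ∧
      R ≤ Subgroup.centralizer (K : Set G) ∧ R ⊓ K = ⊥ := by
  obtain ⟨w, hwW, hw1, R, hR2, hRH, hHR, hwR⟩ := c.min_sub H W hH hWH hW hW1 hSW
  have hRK : R ⊓ K = ⊥ := by
    haveI hn : ((R ⊓ K).subgroupOf K).Normal := by
      rw [Subgroup.normal_subgroupOf_iff_le_normalizer inf_le_right]
      intro k hk
      have h1 : k ∈ Subgroup.normalizer (R : Set G) := hHR (hKH hk)
      have h2 : k ∈ Subgroup.normalizer (K : Set G) := Subgroup.le_normalizer hk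
      rw [Subgroup.mem_normalizer_iff] at h1 h2 ⊢
      intro x
      rw [Subgroup.mem_inf, Subgroup.mem_inf, ← h1 x, ← h2 x]
    have hsn : (((R ⊓ K).subgroupOf K).map K.subtype).IsSubnormal :=
      Subgroup.IsSubnormal.trans' (Subgroup.Normal.isSubnormal hn) hK
    rw [Subgroup.map_subgroupOf_eq_of_le inf_le_right] at hsn
    have h3 := Cfsg.Agent.Helper2.isSubnormal_pGroup_le_pCore (p := 2) hsn (hR2.to_le inf_le_left)
    rw [hO] at h3
    exact eq_bot_iff.2 h3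
  refine ⟨w, hwW, hw1, R, hR2, hwR, hRH, ?_, hRK⟩
  intro r hr
  rw [Subgroup.mem_centralizer_iff]
  intro k hk
  have hk' : k ∈ K := hk
  have h1 : r * k * r⁻¹ * k⁻¹ ∈ R ⊓ K := by
    constructor
    · have h2 : k ∈ Subgroup.normalizer (R : Set G) := hHR (hKH hk')
      have h3 : k * r⁻¹ * k⁻¹ ∈ R :=
        (Subgroup.mem_normalizer_iff.1 h2 r⁻¹).1 (R.inv_mem hr)
      have : r * k * r⁻¹ * k⁻¹ = r * (k * r⁻¹ * k⁻¹) := by group
      rw [this]
      exact R.mul_mem hr h3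
    · have h2 : r ∈ Subgroup.normalizer (K : Set G) := hHK (hRH hr)
      have h3 : r * k * r⁻¹ ∈ K := (Subgroup.mem_normalizer_iff.1 h2 k).1 hk'
      exact K.mul_mem h3 (K.inv_mem hk')
  rw [hRK, Subgroup.mem_bot] at h1
  have : r * k = (r * k * r⁻¹ * k⁻¹) * (k * r) := by group
  rw [this, h1, one_mul]

/-- `O₂(G) = 1` in a minimal counterexample. -/
theorem Ctx.pCore_eq_bot (c : Ctx G V) : Cfsg.pCore 2 G = ⊥ := by
  by_contra hne
  obtain ⟨v, hv, hv1, hvQ⟩ := c.min_quot (Cfsg.pCore 2 G) hne c.hVO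
  rw [Cfsg.Agent.Helper3.HHAb.pCore_quotient_pCore, Subgroup.mem_bot, QuotientGroup.mk'_apply,
    QuotientGroup.eq_one_iff] at hvQ
  have h1 : v ∈ V ⊓ Cfsg.pCore 2 G := ⟨hv, hvQ⟩
  rw [c.hVO] at h1
  exact hv1 h1

/-- `G = V F*(G)` in a minimal counterexample. -/
theorem Ctx.sup_eq_top (c : Ctx G V) : V ⊔ Cfsg.generalizedFittingSubgroup G = ⊤ := by
  by_contra hne
  have hO := c.pCore_eq_bot
  set L := Cfsg.generalizedFittingSubgroup G with hL
  obtain ⟨w, hwV, hw1, R, hR2, hwR, hRH, hRC, hRL⟩ :=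
    c.cent_of_min hO (V ⊔ L) V L hne le_sup_left le_sup_right
      (by rw [Subgroup.normalizer_eq_top]; exact le_top)
      (Subgroup.Normal.isSubnormal inferInstance) c.hV c.hV1
      (fun h _ v hv hodd hinv => c.hS h v hv hodd hinv)
  have h1 : R ≤ L := hRC.trans Cfsg.Agent.Helper2.centralizer_generalizedFittingSubgroup_le
  have h2 : w ∈ R ⊓ L := ⟨hwR, h1 hwR⟩
  rw [hRL] at h2
  exact hw1 h2

end Cfsg.Agent.Helper9.Sidki
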