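import Mathlib
import Cfsg.Prelude.Def_Local
import Cfsg.Agent.Helper9.Sidki.Basic
import Cfsg.Agent.Helper4.Camina

/-!
helper9: `O₂(G ⧸ N) = 1` for a central subgroup `N` of odd order of a group with `O₂(G) = 1`.
-/

set_option autoImplicit false

namespace Cfsg.Agent.Helper9.Sidki

universe u

variable {G : Type u} [Group G] [Finite G]

theorem comap_pCore_quot_le_of_central (hO : Cfsg.pCore 2 G = ⊥) (N : Subgroup G) [N.Normal]
    (hNc : N ≤ Subgroup.center G) (hNodd : Odd (Nat.card N)) :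
    (Cfsg.pCore 2 (G ⧸ N)).comap (QuotientGroup.mk' N) ≤ N := by
  haveI : Fact (Nat.Prime 2) := ⟨Nat.prime_two⟩
  set T := (Cfsg.pCore 2 (G ⧸ N)).comap (QuotientGroup.mk' N) with hT
  haveI hTn : T.Normal := Subgroup.Normal.comap Cfsg.Agent.Helper4.pCore_normal _
  have hNT : N ≤ T := by
    intro n hn
    rw [hT, Subgroup.mem_comap, QuotientGroup.mk'_apply, (QuotientGroup.eq_one_iff n).2 hn]
    exact Subgroup.one_mem _
  obtain ⟨a, ha⟩ := IsPGroup.iff_card.1
    (Cfsg.Agent.Helper4.pCore_isPGroup : IsPGroup 2 (Cfsg.pCore 2 (G ⧸ N)))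
  have hcardT : Nat.card T = Nat.card N * 2 ^ a := by
    rw [hT, Cfsg.Agent.Helper4.card_comap_mk', ha]
  have hcardN' : Nat.card (N.subgroupOf T) = Nat.card N :=
    Nat.card_congr (Subgroup.subgroupOfEquivOfLe hNT).toEquiv
  have hindex : (N.subgroupOf T).index = 2 ^ a := by
    have h1 := (N.subgroupOf T).card_mul_index
    rw [hcardN', hcardT] at h1
    exact Nat.eq_of_mul_eq_mul_left Nat.card_pos h1
  have hcop2 : (Nat.card N).Coprime (2 ^ a) :=
    Nat.Coprime.pow_right _ (Nat.coprime_two_right.2 hNodd)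
  have hcop : (Nat.card (N.subgroupOf T)).Coprime (N.subgroupOf T).index := by
    rw [hcardN', hindex]
    exact hcop2
  obtain ⟨H, hH⟩ := Subgroup.exists_left_complement'_of_coprime hcop
  have hcardH : Nat.card H = 2 ^ a := by
    have h1 := hH.card_mul
    rw [hcardN', hcardT, mul_comm] at h1
    exact Nat.eq_of_mul_eq_mul_left Nat.card_pos h1
  set P := H.map T.subtype with hP
  have hcardP : Nat.card P = 2 ^ a := by
    rw [hP, Subgroup.card_map_of_injective T.subtype_injective, hcardH]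
  have hP2 : IsPGroup 2 P := IsPGroup.of_card hcardP
  have hPT : P ≤ T := Subgroup.map_subtype_le _
  have hdec : ∀ t ∈ T, ∃ p ∈ P, ∃ n ∈ N, t = p * n := by
    intro t ht
    obtain ⟨⟨⟨h, hh⟩, ⟨n, hn⟩⟩, e⟩ := hH.2 ⟨t, ht⟩
    refine ⟨(h : G), Subgroup.mem_map_of_mem _ hh, (n : G), hn, ?_⟩
    have := congrArg Subtype.val e
    simpa using this.symm
  have hpowP : ∀ x ∈ P, x ^ 2 ^ a = 1 := by
    intro x hx
    have h1 : (⟨x, hx⟩ : P) ^ Nat.card P = 1 := pow_card_eq_one'
    rw [hcardP] at h1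
    have := congrArg Subtype.val h1
    simpa using this
  have hPn : P.Normal := by
    constructor
    intro x hx g
    have hyT : g * x * g⁻¹ ∈ T := hTn.conj_mem x (hPT hx) g
    obtain ⟨p, hp, n, hn, hy⟩ := hdec _ hyT
    have h1 : (g * x * g⁻¹) ^ 2 ^ a = 1 := by
      rw [conj_pow, hpowP x hx]
      group
    have hcomm : Commute p n := by
      have := Subgroup.mem_center_iff.1 (hNc hn) p
      exact this
    have h2 : n ^ 2 ^ a = 1 := by
      rw [hy, hcomm.mul_pow, hpowP p hp, one_mul] at h1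
      exact h1
    have h3 : orderOf n ∣ 2 ^ a := orderOf_dvd_of_pow_eq_one h2
    have h4 : orderOf n ∣ Nat.card N := Subgroup.orderOf_dvd_natCard N hn
    have h5 : orderOf n ∣ Nat.gcd (Nat.card N) (2 ^ a) := Nat.dvd_gcd h4 h3
    rw [hcop2, Nat.dvd_one, orderOf_eq_one_iff] at h5
    rw [hy, h5, mul_one]
    exact hp
  have hPbot : P = ⊥ := by
    have h1 := Cfsg.Agent.Helper4.le_pCore P hPn hP2
    rw [hO] at h1
    exact eq_bot_iff.2 h1
  intro t ht
  obtain ⟨p, hp, n, hn, e⟩ := hdec t ht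
  rw [hPbot, Subgroup.mem_bot] at hp
  rw [e, hp, one_mul]
  exact hn

end Cfsg.Agent.Helper9.Sidki
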