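import Mathlib
import Cfsg.Prelude.Def_Local
import Cfsg.Agent.Helper9.Sidki.MinA
import Cfsg.Agent.Helper9.Sidki.MinB
import Cfsg.Agent.Helper1.ChiefFitting
import Cfsg.Agent.Helper2.Layer

/-!
helper9: `F(G) = 1` in a minimal counterexample to the Sidki pair problem.
-/

set_option autoImplicit false

namespace Cfsg.Agent.Helper9.Sidki

universe u

variable {G : Type u} [Group G] [Finite G]

theorem le_normalizer_of_conj_mem (V X : Subgroup G)
    (h : ∀ u ∈ V, ∀ y ∈ X, u * y * u⁻¹ ∈ X) : V ≤ Subgroup.normalizer (X : Set G) := by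
  intro u hu
  rw [Subgroup.mem_normalizer_iff]
  intro y
  refine ⟨h u hu y, fun hy => ?_⟩
  have h1 := h u⁻¹ (V.inv_mem hu) _ hy
  have e : u⁻¹ * (u * y * u⁻¹) * u⁻¹⁻¹ = y := by group
  rwa [e] at h1

/-- existence of a minimal normal subgroup inside a nontrivial normal subgroup -/
theorem exists_min_normal (F : Subgroup G) [F.Normal] (hF : F ≠ ⊥) :
    ∃ N : Subgroup G, N.Normal ∧ N ≠ ⊥ ∧ N ≤ F ∧
      ∀ M : Subgroup G, M.Normal → M ≤ N → M = ⊥ ∨ M = N := by
  classical
  let P : Subgroup G → Prop := fun N => N.Normal ∧ N ≠ ⊥ ∧ N ≤ F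
  have hex : ∃ N, P N := ⟨F, inferInstance, hF, le_rfl⟩
  obtain ⟨N, hN⟩ := exists_minimal_of_wellFoundedLT P hex
  refine ⟨N, hN.1.1, hN.1.2.1, hN.1.2.2, ?_⟩
  intro M hMn hMN
  by_cases hM : M = ⊥
  · left; exact hM
  · right
    exact le_antisymm hMN (hN.2 ⟨hMn, hM, hMN.trans hN.1.2.2⟩ hMN)

theorem odd_orderOf_mul_of_commute {a b : G} (hab : Commute a b) (ha : Odd (orderOf a))
    (hb : Odd (orderOf b)) : Odd (orderOf (a * b)) := by
  have h1 := hab.orderOf_mul_dvd_lcm
  have h2 : Odd (Nat.lcm (orderOf a) (orderOf b)) := by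
    rw [Nat.odd_iff, ← Nat.two_dvd_ne_zero] at *
    intro h3
    have h4 : 2 ∣ orderOf a * orderOf b := h3.trans (Nat.lcm_dvd_mul _ _)
    rcases (Nat.Prime.dvd_mul Nat.prime_two).1 h4 with h5 | h5
    · exact ha h5
    · exact hb h5
  obtain ⟨k, hk⟩ := h1
  rw [hk] at h2
  exact (Nat.odd_mul.1 h2).1

theorem eq_one_of_pow_four_of_odd {n : G} (h4 : n ^ 4 = 1) (hodd : Odd (orderOf n)) : n = 1 := by
  have h1 : orderOf n ∣ 4 := orderOf_dvd_of_pow_eq_one h4
  have h2 : (orderOf n).Coprime 4 := by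
    have : (4 : ℕ) = 2 ^ 2 := by norm_num
    rw [this]
    exact Nat.Coprime.pow_right _ (Nat.coprime_two_right.2 hodd)
  have h3 : orderOf n = 1 := Nat.Coprime.eq_one_of_dvd h2 h1
  exact orderOf_eq_one_iff.1 h3

variable {V : Subgroup G}

theorem Ctx.fitting_eq_bot (c : Ctx G V) : Cfsg.fittingSubgroup G = ⊥ := by
  by_contra hF
  have hO := c.pCore_eq_bot
  have hG := c.sup_eq_top
  set F := Cfsg.fittingSubgroup G with hFdef
  set L := Cfsg.generalizedFittingSubgroup G with hLdef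
  obtain ⟨N, hNn, hN1, hNF, hNmin⟩ := exists_min_normal F hF
  haveI := hNn
  have hch : Cfsg.Agent.Helper1.ChiefFitting.IsChief N ⊥ :=
    ⟨hNn, inferInstance, bot_lt_iff_ne_bot.2 hN1, fun W hW _ hWN => hNmin W hW hWN⟩
  have hNFc : ⁅N, F⁆ = ⊥ :=
    eq_bot_iff.2 (Cfsg.Agent.Helper1.ChiefFitting.commutator_le_of_isChief inferInstance
      Cfsg.Agent.Helper1.fittingSubgroup_isNilpotent hch)
  have hFC : F ≤ Subgroup.centralizer (N : Set G) := by
    rw [Subgroup.commutator_comm, Subgroup.commutator_eq_bot_iff_le_centralizer] at hNFc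
    exact hNFc
  have hEC : Cfsg.layer G ≤ Subgroup.centralizer (N : Set G) := by
    have h1 := Cfsg.Agent.Helper2.layer_commutator_fittingSubgroup (G := G)
    rw [Subgroup.commutator_eq_bot_iff_le_centralizer] at h1
    exact h1.trans (Subgroup.centralizer_le hNF)
  have hLC : L ≤ Subgroup.centralizer (N : Set G) := sup_le hEC hFC
  have hNcomm : ∀ a ∈ N, ∀ b ∈ N, a * b = b * a := by
    intro a ha b hb
    exact Subgroup.mem_centralizer_iff.1 (hFC (hNF hb)) a ha
  have hnorm : ∀ X : Subgroup G, X ≤ N → V ≤ Subgroup.normalizer (X : Set G) → X.Normal := by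
    intro X hXN hVX
    apply Subgroup.normalizer_eq_top_iff.1
    rw [eq_top_iff, ← hG]
    apply sup_le hVX
    exact hLC.trans ((Subgroup.centralizer_le hXN).trans (Subgroup.centralizer_le_normalizer _))
  -- elements of `N` have odd order
  have hNodd : ∀ n ∈ N, Odd (orderOf n) := by
    obtain ⟨X, hXdef⟩ : ∃ X : Subgroup G, ∀ m, m ∈ X ↔ (m ∈ N ∧ m ^ 2 = 1) :=
      ⟨{ carrier := {m | m ∈ N ∧ m ^ 2 = 1}
         one_mem' := ⟨N.one_mem, one_pow 2⟩
         mul_mem' := by
           rintro a b ⟨ha, ha2⟩ ⟨hb, hb2⟩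
           refine ⟨N.mul_mem ha hb, ?_⟩
           have hc : Commute a b := hNcomm a ha b hb
           rw [hc.mul_pow, ha2, hb2, one_mul]
         inv_mem' := by
           rintro a ⟨ha, ha2⟩
           exact ⟨N.inv_mem ha, by rw [inv_pow, ha2, inv_one]⟩ }, fun m => Iff.rfl⟩
    have hXn : X.Normal := by
      constructor
      intro m hm' g
      obtain ⟨hm, hm2⟩ := (hXdef m).1 hm'
      refine (hXdef _).2 ⟨hNn.conj_mem m hm g, ?_⟩
      rw [conj_pow, hm2]
      group
    have hXN : X ≤ N := fun m hm => ((hXdef m).1 hm).1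
    rcases hNmin X hXn hXN with hX | hX
    · intro n hn
      by_contra hodd
      rw [Nat.not_odd_iff_even] at hodd
      obtain ⟨k, hk⟩ := hodd
      have hk0 : 0 < k := by
        have := orderOf_pos n
        omega
      have h1 : n ^ k ∈ X :=
        (hXdef _).2 ⟨N.pow_mem hn k, by rw [← pow_mul, mul_two, ← hk, pow_orderOf_eq_one]⟩
      rw [hX, Subgroup.mem_bot] at h1
      have h2 := orderOf_dvd_of_pow_eq_one h1
      have h3 := Nat.le_of_dvd hk0 h2
      omega
    · exfalso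
      have h2 : IsPGroup 2 N := by
        intro x
        refine ⟨1, ?_⟩
        apply Subtype.ext
        have h3 : (x : G) ∈ X := by rw [hX]; exact x.2
        simpa using ((hXdef _).1 h3).2
      have h4 := Cfsg.Agent.Helper4.le_pCore N hNn h2
      rw [hO] at h4
      exact hN1 (eq_bot_iff.2 h4)
  -- every element of `V` centralizes or inverts `N`
  have hdich : ∀ v ∈ V, (v ∈ Subgroup.centralizer (N : Set G)) ∨ ∀ m ∈ N, v * m * v⁻¹ = m⁻¹ := by
    intro v hv
    set Y := N ⊓ Subgroup.centralizer ({v} : Set G) with hY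
    have hYn : Y.Normal := by
      apply hnorm Y inf_le_left
      apply le_normalizer_of_conj_mem
      intro u hu y hy
      obtain ⟨hyN, hyv⟩ := Subgroup.mem_inf.1 hy
      refine Subgroup.mem_inf.2 ⟨hNn.conj_mem y hyN u, ?_⟩
      rw [Subgroup.mem_centralizer_singleton_iff] at hyv ⊢
      have huv : u * v = v * u := comm_of_isElementaryAbelian c.hV hu hv
      calc u * y * u⁻¹ * v = u * y * (u⁻¹ * v) := by group
        _ = u * y * (v * u⁻¹) := by
            have : u⁻¹ * v = v * u⁻¹ := by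
              rw [inv_mul_eq_iff_eq_mul, ← mul_assoc, huv, mul_assoc, mul_inv_cancel, mul_one]
            rw [this]
        _ = u * (y * v) * u⁻¹ := by group
        _ = u * (v * y) * u⁻¹ := by rw [hyv]
        _ = (u * v) * y * u⁻¹ := by group
        _ = (v * u) * y * u⁻¹ := by rw [huv]
        _ = v * (u * y * u⁻¹) := by group
    rcases hNmin Y hYn inf_le_left with hY0 | hY1
    · right
      intro m hm
      have hvv : v * v = 1 := by rw [← sq]; exact c.hV.2 v hv
      have hvinv : v⁻¹ = v := inv_eq_self_of_sq (c.hV.2 v hv)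
      have hcm : v * m * v⁻¹ ∈ N := hNn.conj_mem m hm v
      have hx : m * (v * m * v⁻¹) ∈ Y := by
        refine Subgroup.mem_inf.2 ⟨N.mul_mem hm hcm, ?_⟩
        rw [Subgroup.mem_centralizer_singleton_iff]
        have hc := hNcomm m hm _ hcm
        calc m * (v * m * v⁻¹) * v = (v * m * v⁻¹) * m * v := by rw [hc]
          _ = v * m * (v⁻¹ * m * v) := by group
          _ = v * m * (v * m * v⁻¹) := by rw [hvinv]
          _ = v * (m * (v * m * v⁻¹)) := by group
      rw [hY0, Subgroup.mem_bot] at hx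
      exact eq_inv_of_mul_eq_one_right hx
    · left
      rw [Subgroup.mem_centralizer_iff]
      intro m hm
      have h1 : m ∈ Y := by rw [hY1]; exact hm
      have h2 := Subgroup.mem_centralizer_singleton_iff.1 (Subgroup.mem_inf.1 h1).2
      exact h2
  have hVN : V ⊓ N = ⊥ := by
    rw [eq_bot_iff]
    rintro x ⟨hxV, hxN⟩
    rw [Subgroup.mem_bot]
    have h1 := hNodd x hxN
    have h2 : orderOf x ∣ 2 := orderOf_dvd_of_pow_eq_one (c.hV.2 x hxV)
    rcases (Nat.dvd_prime Nat.prime_two).1 h2 with h5 | h5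
    · exact orderOf_eq_one_iff.1 h5
    · rw [h5] at h1
      exact absurd h1 (by decide)
  by_cases hVc : V ≤ Subgroup.centralizer (N : Set G)
  · -- `N` is central
    have hNc : N ≤ Subgroup.center G := by
      have h1 : Subgroup.centralizer (N : Set G) = ⊤ := by
        rw [eq_top_iff, ← hG]
        exact sup_le hVc hLC
      intro n hn
      rw [Subgroup.mem_center_iff]
      intro g
      have h2 : g ∈ Subgroup.centralizer (N : Set G) := h1 ▸ Subgroup.mem_top g
      exact (Subgroup.mem_centralizer_iff.1 h2 n hn).symm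
    have hcardodd : Odd (Nat.card N) := by
      by_contra hnodd
      rw [Nat.not_odd_iff_even, even_iff_two_dvd] at hnodd
      haveI : Fact (Nat.Prime 2) := ⟨Nat.prime_two⟩
      obtain ⟨x, hx⟩ := exists_prime_orderOf_dvd_card' 2 hnodd
      have h1 := hNodd (x : G) x.2
      rw [Subgroup.orderOf_coe, hx] at h1
      exact absurd h1 (by decide)
    obtain ⟨v, hvV, hv1, hvT⟩ := c.min_quot N hN1 hVN
    have h1 : v ∈ N := comap_pCore_quot_le_of_central hO N hNc hcardodd hvT
    have h2 : v ∈ V ⊓ N := ⟨hvV, h1⟩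
    rw [hVN] at h2
    exact hv1 h2
  · obtain ⟨u, huV, hu⟩ := SetLike.not_le_iff_exists.1 hVc
    have hu_inv := (hdich u huV).resolve_left hu
    obtain ⟨⟨n, hn⟩, hn1'⟩ := (Subgroup.ne_bot_iff_exists_ne_one).1 hN1
    have hn1 : n ≠ 1 := fun h => hn1' (Subtype.ext h)
    set V₀ := V ⊓ Subgroup.centralizer (N : Set G) with hV₀
    obtain ⟨w, hwV, hw1, hwn⟩ := c.hS n u huV (hNodd n hn) (hu_inv n hn)
    have hwV₀ : w ∈ V₀ := by
      refine ⟨hwV, ?_⟩
      rcases hdich w hwV with h | h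
      · exact h
      · exact absurd (eq_one_of_inv_of_comm (hNodd n hn) (h n hn) hwn) hn1
    have hV₀1 : V₀ ≠ ⊥ := by
      intro h
      rw [h, Subgroup.mem_bot] at hwV₀
      exact hw1 hwV₀
    have hV₀lt : Nat.card V₀ < Nat.card V := by
      by_contra hlt
      rw [not_lt] at hlt
      have h1 : V₀ = V := Subgroup.eq_of_le_of_card_ge inf_le_left hlt
      have h2 : u ∈ V₀ := h1 ▸ huV
      exact hu h2.2
    have hV₀ea : Cfsg.IsElementaryAbelian 2 V₀ := isElementaryAbelian_of_le c.hV inf_le_left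
    have hnS : ¬ Cfsg.IsSidkiPair V₀ := by
      intro h
      apply c.hminV V₀ hV₀lt hV₀ea hV₀1 h
      rw [hO, inf_bot_eq]
    unfold Cfsg.IsSidkiPair at hnS
    push_neg at hnS
    obtain ⟨h, v₀, hv₀, hodd, hinv, hno⟩ := hnS
    obtain ⟨u', hu'V, hu'1, hu'h⟩ := c.hS h v₀ hv₀.1 hodd hinv
    have hu'not : u' ∉ Subgroup.centralizer (N : Set G) := by
      intro h1
      exact hno u' ⟨hu'V, h1⟩ hu'1 hu'h
    have hu'inv := (hdich u' hu'V).resolve_left hu'not
    have hhL : h ∈ L := by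
      apply mem_of_odd_of_mem_sup V L (isPGroup_of_isElementaryAbelian c.hV) _ _ hodd
      · rw [Subgroup.normalizer_eq_top]
        exact le_top
      · rw [hG]
        exact Subgroup.mem_top h
    have hcomm : n * h = h * n := Subgroup.mem_centralizer_iff.1 (hLC hhL) n hn
    have hoddhn : Odd (orderOf (h * n)) :=
      odd_orderOf_mul_of_commute hcomm.symm hodd (hNodd n hn)
    have e1 : u' * h * u'⁻¹ = h := by rw [hu'h, mul_inv_cancel_right]
    have e2 : u' * n * u'⁻¹ = n⁻¹ := hu'inv n hn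
    have e3 : v₀ * h * v₀⁻¹ = h⁻¹ := hinv
    have e4 : v₀ * n⁻¹ * v₀⁻¹ = n⁻¹ := by
      have := Subgroup.mem_centralizer_iff.1 hv₀.2 n⁻¹ (N.inv_mem hn)
      rw [← this, mul_inv_cancel_right]
    have hvV : v₀ * u' ∈ V := V.mul_mem hv₀.1 hu'V
    have hinvhn : (v₀ * u') * (h * n) * (v₀ * u')⁻¹ = (h * n)⁻¹ := by
      calc (v₀ * u') * (h * n) * (v₀ * u')⁻¹
          = v₀ * ((u' * h * u'⁻¹) * (u' * n * u'⁻¹)) * v₀⁻¹ := by group
        _ = v₀ * (h * n⁻¹) * v₀⁻¹ := by rw [e1, e2]
        _ = (v₀ * h * v₀⁻¹) * (v₀ * n⁻¹ * v₀⁻¹) := by group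
        _ = h⁻¹ * n⁻¹ := by rw [e3, e4]
        _ = (n * h)⁻¹ := by rw [mul_inv_rev]
        _ = (h * n)⁻¹ := by rw [hcomm]
    obtain ⟨w', hw'V, hw'1, hw'hn⟩ := c.hS (h * n) (v₀ * u') hvV hoddhn hinvhn
    rcases hdich w' hw'V with hwc | hwi
    · -- `w'` centralizes `N`
      have h1 : n * w' = w' * n := Subgroup.mem_centralizer_iff.1 hwc n hn
      have h2 : w' * h = h * w' := by
        have h3 : w' * h * n = h * w' * n := by
          calc w' * h * n = w' * (h * n) := by group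
            _ = h * n * w' := hw'hn
            _ = h * (n * w') := by group
            _ = h * (w' * n) := by rw [h1]
            _ = h * w' * n := by group
        exact mul_right_cancel h3
      exact hno w' ⟨hw'V, hwc⟩ hw'1 h2
    · -- `w'` inverts `N`
      set w₀ := w' * u' with hw₀
      have hw₀V : w₀ ∈ V := V.mul_mem hw'V hu'V
      have e5 : w' * h * w'⁻¹ = h * n * n := by
        have h1 : w' * (h * n) * w'⁻¹ = h * n := by rw [hw'hn, mul_inv_cancel_right]
        have h2 : w' * (h * n) * w'⁻¹ = (w' * h * w'⁻¹) * (w' * n * w'⁻¹) := by group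
        rw [h2, hwi n hn] at h1
        calc w' * h * w'⁻¹ = (w' * h * w'⁻¹ * n⁻¹) * n := by group
          _ = h * n * n := by rw [h1]
      have e6 : w₀ * h * w₀⁻¹ = h * n * n := by
        calc w₀ * h * w₀⁻¹ = w' * (u' * h * u'⁻¹) * w'⁻¹ := by rw [hw₀]; group
          _ = w' * h * w'⁻¹ := by rw [e1]
          _ = h * n * n := e5
      have e7 : w₀ * n * w₀⁻¹ = n := by
        calc w₀ * n * w₀⁻¹ = w' * (u' * n * u'⁻¹) * w'⁻¹ := by rw [hw₀]; group
          _ = w' * n⁻¹ * w'⁻¹ := by rw [e2]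
          _ = (w' * n * w'⁻¹)⁻¹ := by group
          _ = n := by rw [hwi n hn, inv_inv]
      have hw₀2 : w₀ * w₀ = 1 := by rw [← sq]; exact c.hV.2 w₀ hw₀V
      have hw₀inv : w₀⁻¹ = w₀ := inv_eq_self_of_sq (c.hV.2 w₀ hw₀V)
      have h4 : h = h * n * n * n * n := by
        calc h = (w₀ * w₀) * h * (w₀ * w₀)⁻¹ := by rw [hw₀2]; group
          _ = w₀ * (w₀ * h * w₀⁻¹) * w₀⁻¹ := by group
          _ = w₀ * (h * n * n) * w₀⁻¹ := by rw [e6]
          _ = (w₀ * h * w₀⁻¹) * (w₀ * n * w₀⁻¹) * (w₀ * n * w₀⁻¹) := by group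
          _ = h * n * n * n * n := by rw [e6, e7]
      have h5 : n ^ 4 = 1 := by
        have h6 : h * 1 = h * (n * n * n * n) := by
          rw [mul_one]
          calc h = h * n * n * n * n := h4
            _ = h * (n * n * n * n) := by group
        have h7 := mul_left_cancel h6
        have h8 : n ^ 4 = n * n * n * n := by
          rw [show (4 : ℕ) = 1 + 1 + 1 + 1 from rfl, pow_add, pow_add, pow_add, pow_one]
        rw [h8, ← h7]
      exact hn1 (eq_one_of_pow_four_of_odd h5 (hNodd n hn))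

end Cfsg.Agent.Helper9.Sidki
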