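import Mathlib
import Cfsg.Prelude.Def_Local
import Cfsg.Agent.Helper9.Sidki.MinC

/-!
helper9: in a minimal counterexample to the Sidki pair problem, `G = V N` and `C_G(N) = 1` for every
nontrivial normal subgroup `N`.
-/

set_option autoImplicit false

namespace Cfsg.Agent.Helper9.Sidki

universe u

variable {G : Type u} [Group G] [Finite G]

theorem inf_centralizer_eq_bot (hF : Cfsg.fittingSubgroup G = ⊥) (N : Subgroup G) [N.Normal] :
    N ⊓ Subgroup.centralizer (N : Set G) = ⊥ := by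
  set Z := N ⊓ Subgroup.centralizer (N : Set G) with hZ
  haveI : (Subgroup.centralizer (N : Set G)).Normal := Subgroup.normal_centralizer
  have hZn : Z.Normal := inferInstance
  haveI hc : IsMulCommutative Z := by
    refine ⟨⟨?_⟩⟩
    rintro ⟨a, ha⟩ ⟨b, hb⟩
    apply Subtype.ext
    show a * b = b * a
    exact Subgroup.mem_centralizer_iff.1 (Subgroup.mem_inf.1 hb).2 a (Subgroup.mem_inf.1 ha).1
  have hnil : Group.IsNilpotent Z := by
    open scoped IsMulCommutative in infer_instance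
  have h1 := Cfsg.Agent.Helper1.le_fittingSubgroup hZn hnil
  rw [hF] at h1
  exact eq_bot_iff.2 h1

theorem orderOf_pow_two_pow_odd (n : G) :
    ∃ k : ℕ, Odd (orderOf (n ^ 2 ^ k)) := by
  obtain ⟨k, m, hm, hkm⟩ := Nat.exists_eq_two_pow_mul_odd (orderOf_pos n).ne'
  refine ⟨k, ?_⟩
  rw [orderOf_pow_of_dvd (pow_ne_zero k two_ne_zero) (Dvd.intro _ hkm.symm), hkm,
    Nat.mul_div_cancel_left _ (pow_pos two_pos k)]
  exact hm

variable {V : Subgroup G}

theorem Ctx.sup_normal_eq_top (c : Ctx G V) (N : Subgroup G) [hNn : N.Normal] (hN1 : N ≠ ⊥) :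
    V ⊔ N = ⊤ := by
  by_contra hne
  have hO := c.pCore_eq_bot
  have hF := c.fitting_eq_bot
  set C := Subgroup.centralizer (N : Set G) with hC
  haveI hCn : C.Normal := Subgroup.normal_centralizer
  have hNC : N ⊓ C = ⊥ := inf_centralizer_eq_bot hF N
  have hnormN : ∀ X : Subgroup G, X ≤ Subgroup.normalizer (N : Set G) := fun X => by
    rw [Subgroup.normalizer_eq_top]
    exact le_top
  -- step 1: `A₁ = C_V(N) ≠ 1`
  obtain ⟨w, hwV, hw1, R, -, hwR, -, hRC, -⟩ :=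
    c.cent_of_min hO (V ⊔ N) V N hne le_sup_left le_sup_right (hnormN _)
      (Subgroup.Normal.isSubnormal hNn) c.hV c.hV1
      (fun h _ v hv hodd hinv => c.hS h v hv hodd hinv)
  set A₁ := V ⊓ C with hA₁
  have hwA : w ∈ A₁ := Subgroup.mem_inf.2 ⟨hwV, hRC hwR⟩
  have hA1 : A₁ ≠ ⊥ := by
    intro h
    rw [h, Subgroup.mem_bot] at hwA
    exact hw1 hwA
  -- step 2: `A₁ ≠ V`
  have hVC : ¬ V ≤ C := by
    intro hVC
    have hCtop : C ≠ ⊤ := by
      intro h
      apply hN1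
      rw [eq_bot_iff, ← hNC]
      exact le_inf le_rfl (h ▸ le_top)
    obtain ⟨w, hwV, hw1, R, -, hwR, hRH, -, hRK⟩ :=
      c.cent_of_min hO C V C hCtop hVC le_rfl
        (by rw [Subgroup.normalizer_eq_top]; exact le_top)
        (Subgroup.Normal.isSubnormal hCn) c.hV c.hV1
        (fun h _ v hv hodd hinv => c.hS h v hv hodd hinv)
    have h1 : w ∈ R ⊓ C := Subgroup.mem_inf.2 ⟨hwR, hRH hwR⟩
    rw [hRK] at h1
    exact hw1 h1
  have hA₁lt : Nat.card A₁ < Nat.card V := by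
    by_contra hlt
    rw [not_lt] at hlt
    have h1 : A₁ = V := Subgroup.eq_of_le_of_card_ge inf_le_left hlt
    apply hVC
    rw [← h1]
    exact inf_le_right
  have hA₁ea : Cfsg.IsElementaryAbelian 2 A₁ := isElementaryAbelian_of_le c.hV inf_le_left
  have hnS : ¬ Cfsg.IsSidkiPair A₁ := by
    intro h
    apply c.hminV A₁ hA₁lt hA₁ea hA1 h
    rw [hO, inf_bot_eq]
  unfold Cfsg.IsSidkiPair at hnS
  push_neg at hnS
  obtain ⟨h, x, hx, hodd, hinv, hno⟩ := hnS
  obtain ⟨hxV, hxC⟩ := Subgroup.mem_inf.1 hx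
  have hxcent : ∀ m ∈ N, x * m * x⁻¹ = m := by
    intro m hm
    have := Subgroup.mem_centralizer_iff.1 hxC m hm
    rw [← this, mul_inv_cancel_right]
  -- step 4: `h ∈ C`
  have hhC : h ∈ C := by
    have h2 : h ^ 2 ∈ C := by
      rw [Subgroup.mem_centralizer_iff]
      intro m hm
      have hm' : h * m * h⁻¹ ∈ N := hNn.conj_mem m hm h
      have e1 := hxcent _ hm'
      have e2 : x * (h * m * h⁻¹) * x⁻¹ = (x * h * x⁻¹) * (x * m * x⁻¹) * (x * h * x⁻¹)⁻¹ := by
        group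
      rw [hinv, hxcent m hm, inv_inv] at e2
      have key : h * m * h⁻¹ = h⁻¹ * m * h := by rw [← e1, e2]
      calc m * h ^ 2 = h * (h⁻¹ * m * h) * h := by rw [sq]; group
        _ = h * (h * m * h⁻¹) * h := by rw [key]
        _ = h ^ 2 * m := by rw [sq]; group
    have hcop : Nat.Coprime 2 (orderOf h) := Nat.coprime_two_left.2 hodd
    obtain ⟨j, hj⟩ := exists_pow_eq_self_of_coprime hcop
    rw [← hj]
    exact C.pow_mem h2 j
  -- step 5
  obtain ⟨u₁, hu₁V, hu₁1, hu₁h⟩ := c.hS h x hxV hodd hinv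
  set U₀ := V ⊓ Subgroup.centralizer ({h} : Set G) with hU₀
  have hu₁U : u₁ ∈ U₀ :=
    Subgroup.mem_inf.2 ⟨hu₁V, Subgroup.mem_centralizer_singleton_iff.2 hu₁h⟩
  have hU1 : U₀ ≠ ⊥ := by
    intro h0
    rw [h0, Subgroup.mem_bot] at hu₁U
    exact hu₁1 hu₁U
  have hU₀A : ∀ w ∈ U₀, w ∈ C → w = 1 := by
    intro w hw hwC
    by_contra hw1
    exact hno w (Subgroup.mem_inf.2 ⟨(Subgroup.mem_inf.1 hw).1, hwC⟩) hw1
      (Subgroup.mem_centralizer_singleton_iff.1 (Subgroup.mem_inf.1 hw).2)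
  have hU₀ea : Cfsg.IsElementaryAbelian 2 U₀ := isElementaryAbelian_of_le c.hV inf_le_left
  -- step 6
  have hH6 : U₀ ⊔ N ≠ ⊤ := by
    intro h6
    apply hne
    rw [eq_top_iff, ← h6]
    exact sup_le_sup_right inf_le_left N
  have hfail : ¬ (∀ a ∈ U₀ ⊔ N, ∀ u ∈ U₀, Odd (orderOf a) → u * a * u⁻¹ = a⁻¹ →
      ∃ w ∈ U₀, w ≠ 1 ∧ w * a = a * w) := by
    intro hall
    obtain ⟨w, hwU, hw1, R, -, hwR, -, hRC, -⟩ :=
      c.cent_of_min hO (U₀ ⊔ N) U₀ N hH6 le_sup_left le_sup_right (hnormN _)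
        (Subgroup.Normal.isSubnormal hNn) hU₀ea hU1 hall
    exact hw1 (hU₀A w hwU (hRC hwR))
  push_neg at hfail
  obtain ⟨a, haH, u, huU, hodda, hinva, hnoa⟩ := hfail
  have haN : a ∈ N :=
    mem_of_odd_of_mem_sup U₀ N (isPGroup_of_isElementaryAbelian hU₀ea) (hnormN _) haH hodda
  -- step 7
  have huV : u ∈ V := (Subgroup.mem_inf.1 huU).1
  have huh : u * h = h * u :=
    Subgroup.mem_centralizer_singleton_iff.1 (Subgroup.mem_inf.1 huU).2
  have huh' : u * h * u⁻¹ = h := by rw [huh, mul_inv_cancel_right]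
  have hxa : x * a * x⁻¹ = a := hxcent a haN
  have hah : a * h = h * a := Subgroup.mem_centralizer_iff.1 hhC a haN
  have hoddah : Odd (orderOf (a * h)) := odd_orderOf_mul_of_commute hah hodda hodd
  have hinvah : (u * x) * (a * h) * (u * x)⁻¹ = (a * h)⁻¹ := by
    calc (u * x) * (a * h) * (u * x)⁻¹ = u * ((x * a * x⁻¹) * (x * h * x⁻¹)) * u⁻¹ := by group
      _ = u * (a * h⁻¹) * u⁻¹ := by rw [hxa, hinv]
      _ = (u * a * u⁻¹) * (u * h * u⁻¹)⁻¹ := by group
      _ = a⁻¹ * h⁻¹ := by rw [hinva, huh']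
      _ = (h * a)⁻¹ := by rw [mul_inv_rev]
      _ = (a * h)⁻¹ := by rw [hah]
  obtain ⟨w, hwV, hw1, hwah⟩ := c.hS (a * h) (u * x) (V.mul_mem huV hxV) hoddah hinvah
  -- step 8
  have ha' : w * a * w⁻¹ ∈ N := hNn.conj_mem a haN w
  have hh' : w * h * w⁻¹ ∈ C := hCn.conj_mem h hhC w
  have hprod : (w * a * w⁻¹) * (w * h * w⁻¹) = a * h := by
    calc (w * a * w⁻¹) * (w * h * w⁻¹) = w * (a * h) * w⁻¹ := by group
      _ = a * h := by rw [hwah, mul_inv_cancel_right]
  have hz : a⁻¹ * (w * a * w⁻¹) ∈ N ⊓ C := by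
    refine Subgroup.mem_inf.2 ⟨N.mul_mem (N.inv_mem haN) ha', ?_⟩
    have e1 : w * a * w⁻¹ = a * h * (w * h * w⁻¹)⁻¹ := by
      rw [← hprod]
      group
    have e2 : a⁻¹ * (w * a * w⁻¹) = h * (w * h * w⁻¹)⁻¹ := by
      rw [e1]
      group
    rw [e2]
    exact C.mul_mem hhC (C.inv_mem hh')
  rw [hNC, Subgroup.mem_bot] at hz
  have hwa' : w * a * w⁻¹ = a := by
    have := congrArg (fun t => a * t) hz
    simpa using this
  have hwa : w * a = a * w := by
    calc w * a = (w * a * w⁻¹) * w := by group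
      _ = a * w := by rw [hwa']
  have hwh : w * h = h * w := by
    have h3 : a * (w * h) = a * (h * w) := by
      calc a * (w * h) = (a * w) * h := by group
        _ = (w * a) * h := by rw [hwa]
        _ = w * (a * h) := by group
        _ = a * h * w := hwah
        _ = a * (h * w) := by group
    exact mul_left_cancel h3
  have hwU : w ∈ U₀ :=
    Subgroup.mem_inf.2 ⟨hwV, Subgroup.mem_centralizer_singleton_iff.2 hwh⟩
  exact hnoa w hwU hw1 hwa

theorem Ctx.centralizer_normal_eq_bot (c : Ctx G V) (N : Subgroup G) [hNn : N.Normal]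
    (hN1 : N ≠ ⊥) : Subgroup.centralizer (N : Set G) = ⊥ := by
  by_contra hC1
  have hO := c.pCore_eq_bot
  have hF := c.fitting_eq_bot
  set C := Subgroup.centralizer (N : Set G) with hC
  haveI hCn : C.Normal := Subgroup.normal_centralizer
  have h2 := c.sup_normal_eq_top C hC1
  have hNC : N ⊓ C = ⊥ := inf_centralizer_eq_bot hF N
  have hN2 : IsPGroup 2 N := by
    rintro ⟨n, hn⟩
    obtain ⟨k, hk⟩ := orderOf_pow_two_pow_odd n
    refine ⟨k, ?_⟩
    apply Subtype.ext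
    have hmem : n ^ 2 ^ k ∈ C := by
      apply mem_of_odd_of_mem_sup V C (isPGroup_of_isElementaryAbelian c.hV) _ _ hk
      · rw [Subgroup.normalizer_eq_top]
        exact le_top
      · rw [h2]
        exact Subgroup.mem_top _
    have h3 : n ^ 2 ^ k ∈ N ⊓ C := Subgroup.mem_inf.2 ⟨N.pow_mem hn _, hmem⟩
    rw [hNC, Subgroup.mem_bot] at h3
    simpa using h3
  have h4 := Cfsg.Agent.Helper4.le_pCore N hNn hN2
  rw [hO] at h4
  exact hN1 (eq_bot_iff.2 h4)

end Cfsg.Agent.Helper9.Sidki
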