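import Mathlib
import Cfsg.Prelude.Def_Local
import Cfsg.Agent.Helper9.Sidki.MinD
import Cfsg.Agent.Helper2.Layer
import Cfsg.Agent.Helper2.CompCent
import Cfsg.Agent.Helper2.Conj

/-!
helper9: in a minimal counterexample to the Sidki pair problem, `F*(G)` is a non-abelian simple group.
-/

set_option autoImplicit false

namespace Cfsg.Agent.Helper9.Sidki

open Cfsg.Agent.Helper2

universe u

variable {G : Type u} [Group G] [Finite G]

/-- a component of a group with trivial Fitting subgroup has trivial centre -/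
theorem component_inf_centralizer {K : Subgroup G} (hK : Cfsg.IsComponent K)
    (hF : Cfsg.fittingSubgroup G = ⊥) : K ⊓ Subgroup.centralizer (K : Set G) = ⊥ := by
  haveI hs : IsSimpleGroup ↥K := Cfsg.Agent.Helper5.component_simple_of_fitting_eq_bot hK hF
  have hna := component_not_commutative hK
  rw [eq_bot_iff]
  intro x hx
  obtain ⟨hxK, hxC⟩ := Subgroup.mem_inf.1 hx
  rw [Subgroup.mem_bot]
  have hxz : (⟨x, hxK⟩ : K) ∈ Subgroup.center ↥K := by
    rw [Subgroup.mem_center_iff]
    rintro ⟨g, hg⟩
    apply Subtype.ext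
    exact Subgroup.mem_centralizer_iff.1 hxC g hg
  rcases (Subgroup.Normal.eq_bot_or_eq_top (inferInstance : (Subgroup.center ↥K).Normal))
    with h | h
  · rw [h, Subgroup.mem_bot] at hxz
    exact congrArg Subtype.val hxz
  · exfalso
    apply hna
    intro a ha b hb
    have h1 : (⟨b, hb⟩ : K) ∈ Subgroup.center ↥K := by rw [h]; exact Subgroup.mem_top _
    have h2 := Subgroup.mem_center_iff.1 h1 ⟨a, ha⟩
    exact congrArg Subtype.val h2

/-- a component contains a nontrivial element of odd order -/
theorem component_exists_odd {K : Subgroup G} (hK : Cfsg.IsComponent K) :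
    ∃ x ∈ K, Odd (orderOf x) ∧ x ≠ 1 := by
  by_contra hno
  push_neg at hno
  apply component_not_solvable hK
  haveI : Fact (Nat.Prime 2) := ⟨Nat.prime_two⟩
  have h2 : IsPGroup 2 K := by
    rintro ⟨x, hx⟩
    obtain ⟨k, hk⟩ := orderOf_pow_two_pow_odd x
    refine ⟨k, ?_⟩
    apply Subtype.ext
    have := hno (x ^ 2 ^ k) (K.pow_mem hx _) hk
    simpa using this
  haveI := h2.isNilpotent
  infer_instance

theorem commute_of_components {K K' : Subgroup G} (hK : Cfsg.IsComponent K)
    (hK' : Cfsg.IsComponent K') (hne : K ≠ K') : K ≤ Subgroup.centralizer (K' : Set G) := by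
  have := components_commute hK hK' hne
  rwa [Subgroup.commutator_eq_bot_iff_le_centralizer] at this

theorem cj_injective {A B : Subgroup G} (g : G) (h : cj g A = cj g B) : A = B := by
  have h1 : cj g⁻¹ (cj g A) = cj g⁻¹ (cj g B) := by rw [h]
  rwa [cj_cj, cj_cj, inv_mul_cancel, cj_one, cj_one] at h1

variable {V : Subgroup G}

theorem Ctx.genFitting_simple (c : Ctx G V) :
    ∃ K : Subgroup G, Cfsg.generalizedFittingSubgroup G = K ∧ IsSimpleGroup ↥K ∧
      ¬ IsMulCommutative ↥K := by
  have hO := c.pCore_eq_bot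
  have hF := c.fitting_eq_bot
  have hG := c.sup_eq_top
  have hFstar : Cfsg.generalizedFittingSubgroup G = Cfsg.layer G := by
    unfold Cfsg.generalizedFittingSubgroup
    rw [hF, sup_bot_eq]
  rw [hFstar] at hG
  have hE1 : Cfsg.layer G ≠ ⊥ := by
    intro h
    have hc := centralizer_generalizedFittingSubgroup_le (G := G)
    rw [hFstar, h] at hc
    apply c.hV1
    rw [eq_bot_iff]
    intro x _
    apply hc
    rw [Subgroup.mem_centralizer_iff]
    intro y hy
    have hy1 : y = 1 := Subgroup.mem_bot.mp hy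
    rw [hy1]
    simp
  obtain ⟨K, hK⟩ : ∃ K : Subgroup G, Cfsg.IsComponent K := by
    by_contra hno
    push_neg at hno
    apply hE1
    unfold Cfsg.layer
    rw [sSup_eq_bot]
    intro K hK
    exact absurd hK (hno K)
  have hKZ := component_inf_centralizer hK hF
  -- the product of the `V`-conjugates of `K`
  set N : Subgroup G := ⨆ v : V, cj (v : G) K with hN
  have hcjN : ∀ g : G, (∀ v : V, ∃ v' : V, cj g (cj (v : G) K) = cj (v' : G) K) →
      ∀ y ∈ N, g * y * g⁻¹ ∈ N := by
    intro g hg y hy
    have h1 : cj g N ≤ N := by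
      rw [hN, cj, Subgroup.map_iSup]
      apply iSup_le
      intro v
      obtain ⟨v', hv'⟩ := hg v
      have : (cj (v : G) K).map (MulAut.conj g).toMonoidHom = cj (v' : G) K := hv'
      rw [this]
      exact le_iSup (fun v : V => cj (v : G) K) v'
    exact h1 (conj_mem_cj N g y hy)
  have hNn : N.Normal := by
    apply Subgroup.normalizer_eq_top_iff.1
    rw [eq_top_iff, ← hG]
    apply sup_le
    · apply le_normalizer_of_conj_mem
      intro u hu y hy
      apply hcjN u _ y hy
      intro v
      exact ⟨⟨u * v, V.mul_mem hu v.2⟩, cj_cj K u v⟩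
    · apply le_normalizer_of_conj_mem
      intro l hl y hy
      apply hcjN l _ y hy
      intro v
      refine ⟨v, ?_⟩
      have h1 := layer_le_normalizer_component (isComponent_cj hK (v : G)) hl
      exact (mem_normalizer_iff_cj _ l).1 h1
  have hKN : K ≤ N := by
    have h1 := le_iSup (fun v : V => cj (v : G) K) (1 : V)
    simpa [cj_one] using h1
  have hN1 : N ≠ ⊥ := by
    intro h
    apply component_ne_bot hK
    rw [eq_bot_iff, ← h]
    exact hKN
  haveI := hNn
  have hCN := c.centralizer_normal_eq_bot N hN1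
  -- every component is a `V`-conjugate of `K`
  have hall : ∀ K' : Subgroup G, Cfsg.IsComponent K' → ∃ v ∈ V, K' = cj v K := by
    intro K' hK'
    by_contra hno
    push_neg at hno
    apply component_ne_bot hK'
    rw [eq_bot_iff, ← hCN, Subgroup.le_centralizer_iff, hN]
    apply iSup_le
    intro v
    exact commute_of_components (isComponent_cj hK (v : G)) hK' (hno v v.2).symm
  -- `V` normalizes `K`
  have hVK : ∀ v ∈ V, cj v K = K := by
    by_contra hcon
    push_neg at hcon
    obtain ⟨v₁, hv₁V, hv₁K⟩ := hcon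
    set K₁ := cj v₁ K with hK₁def
    have hK₁ : Cfsg.IsComponent K₁ := isComponent_cj hK v₁
    set VK := V ⊓ Subgroup.normalizer (K : Set G) with hVKdef
    have hVKea : Cfsg.IsElementaryAbelian 2 VK := isElementaryAbelian_of_le c.hV inf_le_left
    by_cases hVK0 : VK = ⊥
    · -- `V` acts regularly on the components
      obtain ⟨x, hxK, hxodd, hx1⟩ := component_exists_odd hK
      set y := v₁ * x⁻¹ * v₁⁻¹ with hy
      have hyK₁ : y ∈ K₁ := conj_mem_cj K v₁ x⁻¹ (K.inv_mem hxK)
      have hKK₁ := commute_of_components hK₁ hK hv₁K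
      have hxy : x * y = y * x := Subgroup.mem_centralizer_iff.1 (hKK₁ hyK₁) x hxK
      have hyodd : Odd (orderOf y) := by
        have h1 : y = (MulAut.conj v₁).toMonoidHom x⁻¹ := by simp [hy]
        rw [h1, orderOf_injective _ (MulAut.conj v₁).injective, orderOf_inv]
        exact hxodd
      have hoddh : Odd (orderOf (x * y)) := odd_orderOf_mul_of_commute hxy hxodd hyodd
      have hvv : v₁ * v₁ = 1 := by rw [← sq]; exact c.hV.2 v₁ hv₁V
      have hinvh : v₁ * (x * y) * v₁⁻¹ = (x * y)⁻¹ := by
        calc v₁ * (x * y) * v₁⁻¹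
            = (v₁ * x * v₁⁻¹) * ((v₁ * v₁) * x⁻¹ * (v₁ * v₁)⁻¹) := by rw [hy]; group
          _ = (v₁ * x * v₁⁻¹) * x⁻¹ := by rw [hvv]; group
          _ = (x * y)⁻¹ := by rw [hy]; group
      obtain ⟨w, hwV, hw1, hwh⟩ := c.hS (x * y) v₁ hv₁V hoddh hinvh
      have hKw : Cfsg.IsComponent (cj w K) := isComponent_cj hK w
      have hKwv : Cfsg.IsComponent (cj w K₁) := isComponent_cj hK₁ w
      have hx' : w * x * w⁻¹ ∈ cj w K := conj_mem_cj K w x hxK
      have hy' : w * y * w⁻¹ ∈ cj w K₁ := conj_mem_cj K₁ w y hyK₁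
      have hprod : (w * x * w⁻¹) * (w * y * w⁻¹) = x * y := by
        calc (w * x * w⁻¹) * (w * y * w⁻¹) = w * (x * y) * w⁻¹ := by group
          _ = x * y := by rw [hwh, mul_inv_cancel_right]
      have hcases : cj w K = K ∨ cj w K = K₁ := by
        by_contra hno
        push_neg at hno
        obtain ⟨hn1, hn2⟩ := hno
        have hn3 : cj w K₁ ≠ cj w K := fun h => hv₁K (cj_injective w h)
        have hZw := component_inf_centralizer hKw hF
        have e : w * x * w⁻¹ = x * y * (w * y * w⁻¹)⁻¹ := by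
          rw [← hprod]
          group
        have hmem : w * x * w⁻¹ ∈ Subgroup.centralizer ((cj w K : Subgroup G) : Set G) := by
          rw [e]
          apply Subgroup.mul_mem
          · apply Subgroup.mul_mem
            · exact commute_of_components hK hKw (Ne.symm hn1) hxK
            · exact commute_of_components hK₁ hKw (Ne.symm hn2) hyK₁
          · exact Subgroup.inv_mem _ (commute_of_components hKwv hKw hn3 hy')
        have h1 : w * x * w⁻¹ ∈ cj w K ⊓ Subgroup.centralizer ((cj w K : Subgroup G) : Set G) :=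
          Subgroup.mem_inf.2 ⟨hx', hmem⟩
        rw [hZw, Subgroup.mem_bot] at h1
        apply hx1
        have : x = w⁻¹ * (w * x * w⁻¹) * w := by group
        rw [this, h1]
        group
      rcases hcases with h1 | h1
      · have h2 : w ∈ VK :=
          Subgroup.mem_inf.2 ⟨hwV, (mem_normalizer_iff_cj K w).2 h1⟩
        rw [hVK0, Subgroup.mem_bot] at h2
        exact hw1 h2
      · have h2 : cj (v₁⁻¹ * w) K = K := by
          rw [← cj_cj, h1, hK₁def, cj_cj, inv_mul_cancel, cj_one]
        have h3 : v₁⁻¹ * w ∈ VK :=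
          Subgroup.mem_inf.2 ⟨V.mul_mem (V.inv_mem hv₁V) hwV, (mem_normalizer_iff_cj K _).2 h2⟩
        rw [hVK0, Subgroup.mem_bot] at h3
        have h4 : w = v₁ := by
          have := congrArg (fun t => v₁ * t) h3
          simpa using this
        rw [h4] at hwh
        have h5 := eq_one_of_inv_of_comm hoddh hinvh hwh
        have h6 : x ∈ K ⊓ Subgroup.centralizer (K : Set G) := by
          refine Subgroup.mem_inf.2 ⟨hxK, ?_⟩
          have : x = y⁻¹ := eq_inv_of_mul_eq_one_left h5
          rw [this]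
          exact Subgroup.inv_mem _ (hKK₁ hyK₁)
        rw [hKZ, Subgroup.mem_bot] at h6
        exact hx1 h6
    · -- a nontrivial element of `V` normalizes `K`
      have hVKnorm : VK ≤ Subgroup.normalizer (K : Set G) := inf_le_right
      have hHle : VK ⊔ K ≤ Subgroup.normalizer (K : Set G) := sup_le hVKnorm Subgroup.le_normalizer
      have hH : VK ⊔ K ≠ ⊤ := by
        intro h
        apply hv₁K
        have : v₁ ∈ Subgroup.normalizer (K : Set G) := hHle (h ▸ Subgroup.mem_top v₁)
        exact (mem_normalizer_iff_cj K v₁).1 this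
      obtain ⟨⟨w₀, hw₀⟩, hw₀1'⟩ := (Subgroup.ne_bot_iff_exists_ne_one).1 hVK0
      have hw₀1 : w₀ ≠ 1 := fun h => hw₀1' (Subtype.ext h)
      have hcond : ∀ h ∈ VK ⊔ K, ∀ v ∈ VK, Odd (orderOf h) → v * h * v⁻¹ = h⁻¹ →
          ∃ w ∈ VK, w ≠ 1 ∧ w * h = h * w := by
        intro h hh v hv hodd hinv
        have hhK : h ∈ K :=
          mem_of_odd_of_mem_sup VK K (isPGroup_of_isElementaryAbelian hVKea) hVKnorm hh hodd
        by_cases hh1 : h = 1
        · exact ⟨w₀, hw₀, hw₀1, by rw [hh1, mul_one, one_mul]⟩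
        · obtain ⟨w, hwV, hw1, hwh⟩ := c.hS h v (Subgroup.mem_inf.1 hv).1 hodd hinv
          refine ⟨w, Subgroup.mem_inf.2 ⟨hwV, ?_⟩, hw1, hwh⟩
          rw [mem_normalizer_iff_cj]
          by_contra hne
          have h1 : h ∈ cj w K := by
            have : h = w * h * w⁻¹ := by rw [hwh, mul_inv_cancel_right]
            rw [this]
            exact conj_mem_cj K w h hhK
          have h2 := commute_of_components (isComponent_cj hK w) hK hne h1
          have h3 : h ∈ K ⊓ Subgroup.centralizer (K : Set G) := Subgroup.mem_inf.2 ⟨hhK, h2⟩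
          rw [hKZ, Subgroup.mem_bot] at h3
          exact hh1 h3
      obtain ⟨w₁, hw₁VK, hw₁1, R, -, hw₁R, -, hRC, -⟩ :=
        c.cent_of_min hO (VK ⊔ K) VK K hH le_sup_left le_sup_right hHle hK.1 hVKea hVK0 hcond
      have hw₁C : w₁ ∈ Subgroup.centralizer (K : Set G) := hRC hw₁R
      have hw₁V : w₁ ∈ V := (Subgroup.mem_inf.1 hw₁VK).1
      have hw₁N : w₁ ∈ Subgroup.centralizer (N : Set G) := by
        have h1 : N ≤ Subgroup.centralizer ({w₁} : Set G) := by
          rw [hN]
          apply iSup_le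
          intro v
          rintro _ ⟨k, hk, rfl⟩
          rw [Subgroup.mem_centralizer_singleton_iff]
          have hvw : (v : G) * w₁ = w₁ * (v : G) := comm_of_isElementaryAbelian c.hV v.2 hw₁V
          have hkw : k * w₁ = w₁ * k := Subgroup.mem_centralizer_iff.1 hw₁C k hk
          have hvw' : (v : G)⁻¹ * w₁ = w₁ * (v : G)⁻¹ := by
            rw [inv_mul_eq_iff_eq_mul, ← mul_assoc, hvw, mul_assoc, mul_inv_cancel, mul_one]
          show (MulAut.conj (v : G)) k * w₁ = w₁ * (MulAut.conj (v : G)) k
          rw [MulAut.conj_apply]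
          calc (v : G) * k * (v : G)⁻¹ * w₁ = (v : G) * k * ((v : G)⁻¹ * w₁) := by group
            _ = (v : G) * k * (w₁ * (v : G)⁻¹) := by rw [hvw']
            _ = (v : G) * (k * w₁) * (v : G)⁻¹ := by group
            _ = (v : G) * (w₁ * k) * (v : G)⁻¹ := by rw [hkw]
            _ = ((v : G) * w₁) * k * (v : G)⁻¹ := by group
            _ = (w₁ * (v : G)) * k * (v : G)⁻¹ := by rw [hvw]
            _ = w₁ * ((v : G) * k * (v : G)⁻¹) := by group
        rw [Subgroup.mem_centralizer_iff]
        intro n hn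
        exact Subgroup.mem_centralizer_singleton_iff.1 (h1 hn)
      rw [hCN, Subgroup.mem_bot] at hw₁N
      exact hw₁1 hw₁N
  -- conclusion
  have hlayer : Cfsg.layer G = K := by
    apply le_antisymm
    · unfold Cfsg.layer
      apply sSup_le
      intro K' hK'
      obtain ⟨v, hv, rfl⟩ := hall K' hK'
      rw [hVK v hv]
    · exact component_le_layer hK
  refine ⟨K, hFstar.trans hlayer, Cfsg.Agent.Helper5.component_simple_of_fitting_eq_bot hK hF, ?_⟩
  intro hcomm
  apply component_not_commutative hK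
  intro a ha b hb
  have h1 : (⟨a, ha⟩ : K) * ⟨b, hb⟩ = ⟨b, hb⟩ * ⟨a, ha⟩ := hcomm.is_comm.comm _ _
  exact congrArg Subtype.val h1

end Cfsg.Agent.Helper9.Sidki
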